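import Groth.Agent.Lib.RegLoc.GlobalDim
import Groth.Agent.Lib.Miracle4
import Groth.Agent.Lib.Depth.CM
import Mathlib.RingTheory.RingHom.Flat
import Mathlib.RingTheory.Flat.EquationalCriterion
import Mathlib.RingTheory.Filtration
import Mathlib.Algebra.CharP.Frobenius

/-!
# Kunz's theorem: a flat contracting endomorphism forces regularity
-/

set_option autoImplicit false
universe u

open IsLocalRing

namespace Groth.Agent.Kunz27

section Kernel

variable {R S : Type u} [CommRing R] [CommRing S] (φ : R →+* S) {ι : Type u} {m : ℕ}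

/-- Solutions of a linear system over a flat extension come from solutions over the base. -/
theorem mem_span_sol (hφ : φ.Flat) [IsNoetherianRing R] (v : Fin m → ι → R) :
    ∀ (T : Finset ι) (s : Fin m → S), (∀ i ∈ T, ∑ j, s j * φ (v j i) = 0) →
      s ∈ Submodule.span S ((fun w : Fin m → R => φ ∘ w) '' {w | ∀ i ∈ T, ∑ j, w j * v j i = 0}) := by
  classical
  intro T
  induction T using Finset.induction_on with
  | empty =>
    intro s _
    rw [pi_eq_sum_univ' s]
    refine Submodule.sum_mem _ fun j _ => Submodule.smul_mem _ _ (Submodule.subset_span ⟨Pi.single j 1, by simp, ?_⟩)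
    ext k
    rcases eq_or_ne k j with rfl | h
    · simp
    · simp [h]
  | insert i T hi ih =>
    intro s hs
    obtain ⟨l, c, g, hg⟩ := Submodule.mem_span_set'.1 (ih s fun i' hi' => hs i' (Finset.mem_insert_of_mem hi'))
    choose w hw hwg using fun a => (g a).2
    have h0 : ∑ a, φ (∑ j, w a j * v j i) * c a = 0 := by
      calc ∑ a, φ (∑ j, w a j * v j i) * c a = ∑ j, (∑ a, c a * φ (w a j)) * φ (v j i) := by
            simp only [map_sum, map_mul, Finset.sum_mul]
            rw [Finset.sum_comm]
            exact Finset.sum_congr rfl fun j _ => Finset.sum_congr rfl fun a _ => by ring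
        _ = 0 := by
            refine Eq.trans (Finset.sum_congr rfl fun j _ => ?_) (hs i (Finset.mem_insert_self i T))
            congr 1
            rw [← hg]
            simp [← hwg, Finset.sum_apply]
    letI := φ.toAlgebra
    haveI : Module.Flat R S := hφ
    obtain ⟨k, a, y, hy, ha⟩ := Module.Flat.isTrivialRelation_of_sum_smul_eq_zero (R := R) (M := S)
      (f := fun b => ∑ j, w b j * v j i) (x := c) (by
        refine Eq.trans (Finset.sum_congr rfl fun b _ => ?_) h0
        rw [Algebra.smul_def]; rfl)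
    have hsum : s = ∑ q, y q • (φ ∘ fun j => ∑ b, a b q * w b j) := by
      rw [← hg]
      funext j
      simp only [← hwg, Finset.sum_apply, Pi.smul_apply, smul_eq_mul, Function.comp_apply, map_sum, map_mul,
        Finset.mul_sum, hy]
      simp only [Algebra.smul_def, Finset.sum_mul]
      rw [Finset.sum_comm]
      refine Finset.sum_congr rfl fun q _ => Finset.sum_congr rfl fun b _ => ?_
      show φ (a b q) * y q * φ (w b j) = y q * (φ (a b q) * φ (w b j))
      ring
    rw [hsum]
    refine Submodule.sum_mem _ fun q _ => Submodule.smul_mem _ _ (Submodule.subset_span ⟨_, ?_, rfl⟩)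
    intro i' hi'
    have : ∑ j, (∑ b, a b q * w b j) * v j i' = ∑ b, a b q * ∑ j, w b j * v j i' := by
      simp only [Finset.sum_mul, Finset.mul_sum, mul_assoc]
      exact Finset.sum_comm
    rw [this]
    rcases Finset.mem_insert.1 hi' with rfl | h
    · exact (Finset.sum_congr rfl fun b _ => mul_comm _ _).trans (ha q)
    · exact Finset.sum_eq_zero fun b _ => by rw [hw b i' h, mul_zero]

end Kernel

section Regular

variable {R : Type u} [CommRing R]

/-- `A` meets `I Rⁿ` in `I A`. -/
def Pure {n : ℕ} (I : Ideal R) (A : Submodule R (Fin n → R)) : Prop :=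
  ∀ v ∈ A, (∀ i, v i ∈ I) → v ∈ I • A

/-- The image of a submodule under the coordinatewise action of an endomorphism. -/
def push (φ : R →+* R) {n : ℕ} (A : Submodule R (Fin n → R)) : Submodule R (Fin n → R) :=
  Submodule.span R ((fun w : Fin n → R => φ ∘ w) '' (A : Set (Fin n → R)))

theorem mem_smul_of_coord {n : ℕ} {I : Ideal R} {v : Fin n → R} (h : ∀ i, v i ∈ I) :
    v ∈ I • (⊤ : Submodule R (Fin n → R)) := by
  rw [pi_eq_sum_univ' v]
  exact Submodule.sum_mem _ fun i _ => Submodule.smul_mem_smul (h i) trivial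

theorem coord_of_mem_smul {n : ℕ} {I : Ideal R} {A : Submodule R (Fin n → R)} {v : Fin n → R} (h : v ∈ I • A)
    (i : Fin n) : v i ∈ I :=
  Submodule.smul_induction_on h (fun r hr w _ => I.mul_mem_right _ hr) (fun a b ha hb => I.add_mem ha hb)

theorem pure_bot {n : ℕ} (A : Submodule R (Fin n → R)) : Pure (⊥ : Ideal R) A := fun v _ h => by
  rw [show v = 0 from funext fun i => h i]
  exact zero_mem _

/-- The step of the induction along a regular sequence, for a kernel. -/
theorem pure_sup {n m : ℕ} (G : (Fin m → R) →ₗ[R] (Fin n → R)) {I : Ideal R} {x : R}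
    (hx : ∀ a, x * a ∈ I → a ∈ I) (hB : Pure I (LinearMap.range G)) (hK : Pure I (LinearMap.ker G)) :
    Pure (I ⊔ Ideal.span {x}) (LinearMap.ker G) := by
  intro k hk hcoord
  choose a ha b hb hab using fun i => Submodule.mem_sup.1 (hcoord i)
  choose f hf using fun i => Ideal.mem_span_singleton'.1 (hb i)
  have hkf : k = a + x • f := funext fun i => by
    rw [Pi.add_apply, Pi.smul_apply, smul_eq_mul, ← hab i, ← hf i, mul_comm]
  have hG : G a + x • G f = 0 := by rw [← map_smul, ← map_add, ← hkf]; exact hk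
  have hGa : ∀ i, (G a) i ∈ I := fun i =>
    coord_of_mem_smul (A := ⊤) (by
      obtain h := Submodule.mem_map_of_mem (f := G) (mem_smul_of_coord ha)
      rw [Submodule.map_smul''] at h
      exact Submodule.smul_mono le_rfl le_top h) i
  have hGf : ∀ i, (G f) i ∈ I := fun i => hx _ (by
    have h : (G a) i + x * (G f) i = 0 := congrFun hG i
    rw [show x * (G f) i = -(G a) i from eq_neg_of_add_eq_zero_right h]
    exact I.neg_mem (hGa i))
  have hI := hB _ ⟨f, rfl⟩ hGf
  rw [LinearMap.range_eq_map, ← Submodule.map_smul''] at hI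
  obtain ⟨g, hg, hgf⟩ := hI
  have hfg : f - g ∈ LinearMap.ker G := by rw [LinearMap.mem_ker, map_sub, hgf, sub_self]
  have h1 : k - x • (f - g) ∈ I • LinearMap.ker G := by
    refine hK _ (sub_mem hk (Submodule.smul_mem _ _ hfg)) fun i => ?_
    have : (k - x • (f - g)) i = a i + x * g i := by
      simp only [hkf, Pi.sub_apply, Pi.smul_apply, Pi.add_apply, smul_eq_mul]; ring
    rw [this]
    exact I.add_mem (ha i) (I.mul_mem_left x (coord_of_mem_smul hg i))
  rw [← sub_add_cancel k (x • (f - g)), Submodule.sup_smul]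
  exact Submodule.add_mem_sup h1 (Submodule.smul_mem_smul (Ideal.mem_span_singleton_self x) hfg)

variable [IsNoetherianRing R]

theorem ker_push (φ : R →+* R) (hφ : φ.Flat) {n m : ℕ} (v : Fin m → Fin n → R) :
    LinearMap.ker (Fintype.linearCombination R fun j => φ ∘ v j) =
      push φ (LinearMap.ker (Fintype.linearCombination R v)) := by
  refine le_antisymm (fun s hs => ?_) (Submodule.span_le.2 ?_)
  · refine Submodule.span_mono (Set.image_mono ?_)
      (mem_span_sol φ hφ (ι := ULift.{u} (Fin n)) (fun j i => v j i.down) Finset.univ s fun i _ => ?_)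
    · intro w hw
      refine LinearMap.mem_ker.2 (funext fun i => ?_)
      simpa [Fintype.linearCombination_apply, Finset.sum_apply] using hw ⟨i⟩ (Finset.mem_univ _)
    · simpa [Fintype.linearCombination_apply, Finset.sum_apply] using congrFun (LinearMap.mem_ker.1 hs) i.down
  · rintro _ ⟨w, hw, rfl⟩
    refine LinearMap.mem_ker.2 (funext fun i => ?_)
    have := congrArg φ (congrFun (LinearMap.mem_ker.1 hw) i)
    simpa [Fintype.linearCombination_apply, Finset.sum_apply, map_sum, map_mul] using this

theorem range_push (φ : R →+* R) {n m : ℕ} (v : Fin m → Fin n → R) {A : Submodule R (Fin n → R)}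
    (hA : Submodule.span R (Set.range v) = A) :
    LinearMap.range (Fintype.linearCombination R fun j => φ ∘ v j) = push φ A := by
  rw [Fintype.range_linearCombination]
  refine le_antisymm (Submodule.span_mono ?_) (Submodule.span_le.2 ?_)
  · rintro _ ⟨j, rfl⟩
    exact ⟨v j, hA ▸ Submodule.subset_span ⟨j, rfl⟩, rfl⟩
  · rintro _ ⟨w, hw, rfl⟩
    obtain ⟨c, rfl⟩ := Submodule.mem_span_range_iff_exists_fun R |>.1 (hA ▸ hw : w ∈ Submodule.span R (Set.range v))
    have : φ ∘ (∑ j, c j • v j) = ∑ j, φ (c j) • (φ ∘ v j) := funext fun i => by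
      simp [Finset.sum_apply, map_sum, map_mul]
    show φ ∘ _ ∈ _
    rw [this]
    exact Submodule.sum_mem _ fun j _ => Submodule.smul_mem _ _ (Submodule.subset_span ⟨j, rfl⟩)

/-- Minimal generators of a submodule of a free module. -/
theorem exists_min_gen [IsLocalRing R] {n : ℕ} (A : Submodule R (Fin n → R)) :
    ∃ (m : ℕ) (v : Fin m → Fin n → R), Submodule.span R (Set.range v) = A ∧
      ∀ c ∈ LinearMap.ker (Fintype.linearCombination R v), ∀ j, c j ∈ maximalIdeal R := by
  classical
  have hex : ∃ m, ∃ v : Fin m → Fin n → R, Submodule.span R (Set.range v) = A :=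
    Submodule.fg_iff_exists_fin_generating_family.1 (IsNoetherian.noetherian A)
  obtain ⟨v, hv⟩ := Nat.find_spec hex
  refine ⟨_, v, hv, fun c hc j => ?_⟩
  by_contra hu
  obtain ⟨r, hr⟩ : ∃ r, Nat.find hex = r + 1 := ⟨Nat.find hex - 1, by have := j.pos; omega⟩
  obtain ⟨u, huc⟩ := (IsLocalRing.notMem_maximalIdeal.1 hu).exists_left_inv
  let e : Fin (r + 1) ≃ Fin (Nat.find hex) := finCongr hr.symm
  refine Nat.find_min hex (m := r) (by omega) ⟨fun l => v (e ((e.symm j).succAbove l)), ?_⟩
  refine le_antisymm ((Submodule.span_mono ?_).trans hv.le) (hv.ge.trans (Submodule.span_le.2 ?_))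
  · rintro _ ⟨l, rfl⟩
    exact ⟨_, rfl⟩
  rintro _ ⟨k, rfl⟩
  have hothers : ∀ l, l ≠ j → v l ∈ Submodule.span R (Set.range fun l => v (e ((e.symm j).succAbove l))) :=
    fun l hl => by
      obtain ⟨a, ha⟩ := Fin.exists_succAbove_eq (x := e.symm l) (y := e.symm j) fun h => hl (e.symm.injective h)
      refine Submodule.subset_span ⟨a, ?_⟩
      simp only [ha, Equiv.apply_symm_apply]
  rcases eq_or_ne k j with rfl | hk
  · have hsum : ∑ l, c l • v l = 0 := hc
    rw [← Finset.add_sum_erase _ _ (Finset.mem_univ k), add_eq_zero_iff_eq_neg] at hsum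
    have h2 : c k • v k ∈ Submodule.span R (Set.range fun l => v (e ((e.symm k).succAbove l))) := by
      rw [hsum]
      exact neg_mem (Submodule.sum_mem _ fun l hl => Submodule.smul_mem _ _ (hothers l (Finset.ne_of_mem_erase hl)))
    have h3 := Submodule.smul_mem _ u h2
    rwa [smul_smul, huc, one_smul] at h3
  · exact hothers k hk

variable [IsLocalRing R]

/-- A maximal regular sequence and a socle element modulo it. -/
theorem exists_seq : ∃ (s : ℕ) (x : ℕ → R),
    (∀ j < s, ∀ a, x j * a ∈ Ideal.span (x '' Set.Iio j) → a ∈ Ideal.span (x '' Set.Iio j)) ∧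
      ∃ z, z ∉ Ideal.span (x '' Set.Iio s) ∧ Ideal.span (x '' Set.Iio s) ≤ maximalIdeal R ∧
        ∀ a ∈ maximalIdeal R, a * z ∈ Ideal.span (x '' Set.Iio s) := by
  classical
  let good : Set (Ideal R) := {I | ∃ (s : ℕ) (x : ℕ → R),
    (∀ j < s, ∀ a, x j * a ∈ Ideal.span (x '' Set.Iio j) → a ∈ Ideal.span (x '' Set.Iio j)) ∧
      I = Ideal.span (x '' Set.Iio s) ∧ I ≤ maximalIdeal R}
  obtain ⟨I, ⟨s, x, hx, rfl, hIm⟩, hmax⟩ := set_has_maximal_iff_noetherian.2 inferInstance good
    ⟨⊥, 0, fun _ => 0, fun j hj => absurd hj (Nat.not_lt_zero j), by simp, bot_le⟩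
  refine ⟨s, x, hx, ?_⟩
  set I := Ideal.span (x '' Set.Iio s) with hIdef
  have hzd : (maximalIdeal R : Set R) ⊆ ⋃ P ∈ associatedPrimes R (R ⧸ I), (P : Set R) := by
    intro y hy
    rw [biUnion_associatedPrimes_eq_zero_divisors]
    by_contra hc
    have hreg : ∀ a, y * a ∈ I → a ∈ I := fun a ha => by
      by_contra ha'
      exact hc ⟨Submodule.Quotient.mk a, fun h => ha' ((Submodule.Quotient.mk_eq_zero _).1 h),
        (Submodule.Quotient.mk_eq_zero _).2 ha⟩
    have himg : Function.update x s y '' Set.Iio s = x '' Set.Iio s :=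
      Set.image_congr fun j hj => Function.update_of_ne (ne_of_lt hj) _ _
    have himg' : Ideal.span (Function.update x s y '' Set.Iio (s + 1)) = I ⊔ Ideal.span {y} := by
      rw [show Set.Iio (s + 1) = Set.Iio s ∪ {s} by ext l; simp; try omega, Set.image_union, himg, Set.image_singleton,
        Function.update_self, Ideal.span_union]
    refine hmax (I ⊔ Ideal.span {y}) ⟨s + 1, Function.update x s y, fun j hj a ha => ?_, himg'.symm, ?_⟩ ?_
    · have hj' : Function.update x s y '' Set.Iio j = x '' Set.Iio j :=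
        Set.image_congr fun l hl => Function.update_of_ne (by have : l < j := hl; omega) _ _
      rw [hj'] at ha ⊢
      rcases Nat.lt_succ_iff_lt_or_eq.1 hj with h | rfl
      · rw [Function.update_of_ne h.ne] at ha
        exact hx j h a ha
      · rw [Function.update_self] at ha
        exact hreg a ha
    · exact sup_le hIm ((Ideal.span_singleton_le_iff_mem _).2 hy)
    · refine lt_of_le_of_ne le_sup_left fun h => ?_
      have hyI : y ∈ I := h ▸ Ideal.mem_sup_right (Ideal.mem_span_singleton_self y)
      exact (maximalIdeal.isMaximal R).ne_top (top_le_iff.1 (((Ideal.eq_top_iff_one I).2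
        (hreg 1 (by rwa [mul_one]))).ge.trans hIm))
  haveI : Nontrivial (R ⧸ I) := Ideal.Quotient.nontrivial_iff.2 (ne_top_of_le_ne_top (maximalIdeal.isMaximal R).ne_top hIm)
  obtain ⟨P, hP, hle⟩ := (Ideal.subset_union_prime_finite (associatedPrimes.finite R (R ⧸ I)) ⊥ ⊥
    fun P hP _ _ => hP.isPrime).1 hzd
  obtain ⟨hp, q, hq⟩ := isAssociatedPrime_iff.1 hP
  obtain ⟨z, rfl⟩ := Submodule.Quotient.mk_surjective _ q
  refine ⟨z, fun h => hp.ne_top ?_, hIm, fun a ha => ?_⟩
  · rw [hq, (Submodule.Quotient.mk_eq_zero _).2 h]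
    ext; simp [Submodule.mem_colon_singleton]
  · have := hle ha
    rw [hq, Submodule.mem_colon_singleton, Submodule.mem_bot] at this
    exact (Submodule.Quotient.mk_eq_zero _).1 this

variable {φ : R →+* R}

theorem iterate_mem_pow (hm : ∀ a ∈ maximalIdeal R, φ a ∈ maximalIdeal R ^ 2) :
    ∀ (e : ℕ), ∀ a ∈ maximalIdeal R, φ^[e] a ∈ maximalIdeal R ^ (2 ^ e)
  | 0, a, ha => by simpa using ha
  | e + 1, a, ha => by
    rw [Function.iterate_succ_apply', pow_succ, mul_comm (2 ^ e), pow_mul]
    have hle : (maximalIdeal R ^ (2 ^ e)).map φ ≤ (maximalIdeal R ^ 2) ^ (2 ^ e) := by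
      rw [Ideal.map_pow]
      exact Ideal.pow_right_mono (Ideal.map_le_iff_le_comap.2 hm) _
    exact hle (Ideal.mem_map_of_mem φ (iterate_mem_pow hm e a ha))

theorem exists_flat_iterate (hφ : φ.Flat) (hm : ∀ a ∈ maximalIdeal R, φ a ∈ maximalIdeal R ^ 2) (N : ℕ) :
    ∃ ψ : R →+* R, ψ.Flat ∧ ∀ a ∈ maximalIdeal R, ψ a ∈ maximalIdeal R ^ N := by
  suffices ∀ e : ℕ, ∃ ψ : R →+* R, ψ.Flat ∧ ⇑ψ = φ^[e] by
    obtain ⟨ψ, hψ, h⟩ := this N
    exact ⟨ψ, hψ, fun a ha => Ideal.pow_le_pow_right Nat.lt_two_pow_self.le (h ▸ iterate_mem_pow hm N a ha)⟩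
  intro e
  induction e with
  | zero => exact ⟨RingHom.id R, RingHom.Flat.id R, rfl⟩
  | succ e ih =>
    obtain ⟨ψ, hψ, h⟩ := ih
    exact ⟨ψ.comp φ, RingHom.Flat.comp hφ hψ, by rw [RingHom.coe_comp, h, Function.iterate_succ]⟩

/-- A Noetherian local ring with a flat endomorphism sending the maximal ideal into its square is regular. -/
theorem isRegularLocalRing_of_flat_endo (hφ : φ.Flat)
    (hm : ∀ a ∈ maximalIdeal R, φ a ∈ maximalIdeal R ^ 2) : IsRegularLocalRing R := by
  classical
  obtain ⟨t, x, hx, z, hz, hIm, hsoc⟩ := exists_seq (R := R)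
  set I := Ideal.span (x '' Set.Iio t) with hI
  obtain ⟨N, hN⟩ : ∃ N : ℕ, z ∉ I ⊔ maximalIdeal R ^ N := by
    by_contra hc
    push Not at hc
    haveI : Nontrivial (R ⧸ I) := Ideal.Quotient.nontrivial_iff.2
      (ne_top_of_le_ne_top (maximalIdeal.isMaximal R).ne_top hIm)
    haveI : IsLocalRing (R ⧸ I) := IsLocalRing.of_surjective' (Ideal.Quotient.mk I) Ideal.Quotient.mk_surjective
    have h : Ideal.Quotient.mk I z ∈ ⨅ i : ℕ, (maximalIdeal (R ⧸ I)) ^ i := Ideal.mem_iInf.2 fun i => by
      obtain ⟨a, ha, b, hb, hab⟩ := Submodule.mem_sup.1 (hc i)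
      rw [← hab, map_add, Ideal.Quotient.eq_zero_iff_mem.2 ha, zero_add]
      refine Ideal.pow_right_mono (Ideal.map_le_iff_le_comap.2 fun c hc' => ?_) i
        (Ideal.map_pow (Ideal.Quotient.mk I) _ i ▸ Ideal.mem_map_of_mem _ hb)
      haveI : IsLocalHom (Ideal.Quotient.mk I) := IsLocalHom.of_surjective _ Ideal.Quotient.mk_surjective
      exact fun hu => hc' (isUnit_of_map_unit _ _ hu)
    rw [Ideal.iInf_pow_eq_bot_of_isLocalRing _ (maximalIdeal.isMaximal _).ne_top, Ideal.mem_bot,
      Ideal.Quotient.eq_zero_iff_mem] at h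
    exact hz h
  obtain ⟨ψ, hψ, hψm⟩ := exists_flat_iterate hφ hm N
  have key : ∀ s, s ≤ t → ∃ (n : ℕ) (A : Submodule R (Fin n → R)), (∀ v ∈ A, ∀ i, v i ∈ maximalIdeal R) ∧
      (∀ j ≤ s, Pure (Ideal.span (x '' Set.Iio j)) (push ψ A)) ∧
      ∀ i, RegLoc.PD R A i → ∃ M, RegLoc.PD R (R ⧸ maximalIdeal R) M := by
    intro s
    induction s with
    | zero =>
      intro _
      let π : (Fin 1 → R) →ₗ[R] R ⧸ maximalIdeal R := (maximalIdeal R).mkQ ∘ₗ LinearMap.proj 0
      have hπ : Function.Surjective π := fun q => by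
        obtain ⟨a, rfl⟩ := Submodule.mkQ_surjective _ q
        exact ⟨fun _ => a, rfl⟩
      refine ⟨1, LinearMap.ker π, fun v hv i => ?_, fun j hj => ?_, fun i hi => ⟨i + 1, (RegLoc.pd_succ_iff π hπ).2 hi⟩⟩
      · rw [Subsingleton.elim i 0]
        exact (Submodule.Quotient.mk_eq_zero _).1 (LinearMap.mem_ker.1 hv)
      · obtain rfl : j = 0 := by omega
        simpa using pure_bot _
    | succ s ih =>
      intro hs
      obtain ⟨n, A, hAm, hpure, hpd⟩ := ih (by omega)
      obtain ⟨m, v, hv, hmin⟩ := exists_min_gen A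
      refine ⟨m, LinearMap.ker (Fintype.linearCombination R v), hmin, fun j hj => ?_, fun i hi => ?_⟩
      · rw [← ker_push ψ hψ v]
        induction j with
        | zero => simpa using pure_bot _
        | succ j ihj =>
          rw [show Set.Iio (j + 1) = Set.Iio j ∪ {j} by ext l; simp; try omega, Set.image_union, Set.image_singleton,
            Ideal.span_union]
          exact pure_sup _ (hx j (by omega)) (range_push ψ v hv ▸ hpure j (by omega)) (ihj (by omega))
      · let g : (Fin m → R) →ₗ[R] A := (Fintype.linearCombination R v).codRestrict A fun c =>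
          hv ▸ (Fintype.range_linearCombination R v ▸ LinearMap.mem_range_self _ c)
        have hg : Function.Surjective g := fun a => by
          have : (a : Fin n → R) ∈ LinearMap.range (Fintype.linearCombination R v) := by
            rw [Fintype.range_linearCombination, hv]; exact a.2
          obtain ⟨c, hc⟩ := this
          exact ⟨c, Subtype.ext hc⟩
        refine hpd (i + 1) ((RegLoc.pd_succ_iff g hg).2 ?_)
        rw [LinearMap.ker_codRestrict]
        exact hi
  obtain ⟨n, A, hAm, hpure, hpd⟩ := key t le_rfl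
  obtain ⟨m, v, hv, hmin⟩ := exists_min_gen A
  rcases Nat.eq_zero_or_pos m with rfl | hpos
  · have : A = ⊥ := by rw [← hv]; simp [Set.range_eq_empty]
    subst this
    obtain ⟨M, hM⟩ := hpd 0 (RegLoc.PD.of_projective 0)
    exact RegLoc.isRegularLocalRing_of_pd R M hM
  exfalso
  let j₀ : Fin m := ⟨0, hpos⟩
  let G := Fintype.linearCombination R fun j => ψ ∘ v j
  have hN0 : N ≠ 0 := fun h => hN (by rw [h, pow_zero, Ideal.one_eq_top, sup_top_eq]; trivial)
  have hψmem : ∀ a ∈ maximalIdeal R, ψ a ∈ maximalIdeal R := fun a ha => Ideal.pow_le_self hN0 (hψm a ha)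
  have hz0 : ∀ i, (G (Pi.single j₀ z)) i ∈ I := fun i => by
    rw [show G (Pi.single j₀ z) = z • (ψ ∘ v j₀) by simp [G, Fintype.linearCombination_apply_single]]
    rw [Pi.smul_apply, smul_eq_mul, mul_comm]
    exact hsoc _ (hψmem _ (hAm _ (hv ▸ Submodule.subset_span ⟨j₀, rfl⟩) i))
  have hB := (range_push ψ v hv ▸ hpure t le_rfl) _ (LinearMap.mem_range_self G _) hz0
  rw [LinearMap.range_eq_map, ← Submodule.map_smul''] at hB
  obtain ⟨w, hw, hwz⟩ := hB
  have hker : Pi.single j₀ z - w ∈ push ψ (LinearMap.ker (Fintype.linearCombination R v)) := by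
    rw [← ker_push ψ hψ v, LinearMap.mem_ker, map_sub]
    exact sub_eq_zero.2 hwz.symm
  have hcoord : ∀ k ∈ push ψ (LinearMap.ker (Fintype.linearCombination R v)), k j₀ ∈ maximalIdeal R ^ N := by
    intro k hk
    induction hk using Submodule.span_induction with
    | mem y hy =>
      obtain ⟨c, hc, rfl⟩ := hy
      exact hψm _ (hmin c hc j₀)
    | zero => exact zero_mem _
    | add a b _ _ ha hb => exact add_mem ha hb
    | smul r a _ ha => exact Ideal.mul_mem_left _ r ha
  refine hN ?_
  have h := hcoord _ hker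
  rw [Pi.sub_apply, Pi.single_eq_same] at h
  rw [← add_sub_cancel (w j₀) z]
  exact add_mem (Ideal.mem_sup_left (coord_of_mem_smul hw j₀)) (Ideal.mem_sup_right h)

end Regular

/-- A contracting endomorphism of a regular local ring is flat. -/
theorem flat_of_isRegularLocalRing {A B : Type u} [CommRing A] [IsRegularLocalRing A] [CommRing B]
    [IsRegularLocalRing B] (φ : A →+* B) [IsLocalHom φ] (hrad : maximalIdeal B ≤ ((maximalIdeal A).map φ).radical)
    (hdim : ringKrullDim B = ringKrullDim A) : φ.Flat := by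
  letI := φ.toAlgebra
  haveI : IsLocalHom (algebraMap A B) := ‹IsLocalHom φ›
  haveI : LocCoh.IsCohenMacaulayLocalRing B := DepthLib.isCohenMacaulayLocalRing_of_isRegularLocalRing
  have hne : (maximalIdeal A).map (algebraMap A B) ≠ ⊤ :=
    ne_top_of_le_ne_top (maximalIdeal.isMaximal B).ne_top (Ideal.map_le_iff_le_comap.2 fun a ha => fun hu => ha (isUnit_of_map_unit (algebraMap A B) a hu))
  haveI : Nontrivial (B ⧸ (maximalIdeal A).map (algebraMap A B)) := Ideal.Quotient.nontrivial_iff.2 hne
  haveI : Ring.KrullDimLE 0 (B ⧸ (maximalIdeal A).map (algebraMap A B)) := by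
    refine Ring.KrullDimLE.mk₀ fun P hP => ?_
    have hc := Ideal.comap_isPrime (Ideal.Quotient.mk ((maximalIdeal A).map (algebraMap A B))) P
    have hle : maximalIdeal B ≤ P.comap (Ideal.Quotient.mk _) := hrad.trans (hc.radical_le_iff.2 (fun y hy => by
      change y ∈ (maximalIdeal A).map (algebraMap A B) at hy
      rw [Ideal.mem_comap, Ideal.Quotient.eq_zero_iff_mem.2 hy]; exact zero_mem _))
    have heq := (maximalIdeal.isMaximal B).eq_of_le hc.ne_top hle
    have : (P.comap (Ideal.Quotient.mk ((maximalIdeal A).map (algebraMap A B)))).IsMaximal := heq ▸ maximalIdeal.isMaximal B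
    have hmap := Ideal.map_eq_top_or_isMaximal_of_surjective (Ideal.Quotient.mk ((maximalIdeal A).map (algebraMap A B))) Ideal.Quotient.mk_surjective this
    rw [Ideal.map_comap_of_surjective _ Ideal.Quotient.mk_surjective] at hmap
    exact (hmap.resolve_left hP.ne_top)
  refine Miracle4.flat_of_ringKrullDim_eq ?_
  rw [(ringKrullDimZero_iff_ringKrullDim_eq_zero (R := B ⧸ (maximalIdeal A).map (algebraMap A B))).1 inferInstance,
    add_zero, hdim]

section Frobenius

variable (p : ℕ) [Fact p.Prime]

theorem localRingHom_frobenius {R : Type u} [CommRing R] [CharP R p] (P : Ideal R) [P.IsPrime]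
    [CharP (Localization.AtPrime P) p] (h : P = P.comap (frobenius R p)) :
    Localization.localRingHom P P (frobenius R p) h = frobenius (Localization.AtPrime P) p := by
  refine IsLocalization.ringHom_ext P.primeCompl (RingHom.ext fun a => ?_)
  rw [RingHom.comp_apply, RingHom.comp_apply, Localization.localRingHom_to_map, frobenius_def, frobenius_def, map_pow]

theorem comap_frobenius {R : Type u} [CommRing R] [CharP R p] (P : Ideal R) [P.IsPrime] :
    P.comap (frobenius R p) = P := by
  ext a
  rw [Ideal.mem_comap, frobenius_def]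
  exact ⟨fun h => ‹P.IsPrime›.mem_of_pow_mem p h,
    fun h => Ideal.pow_mem_of_mem _ h _ (Fact.out (p := p.Prime)).pos⟩

theorem charP_localization {R : Type u} [CommRing R] [CharP R p] (P : Ideal R) [P.IsPrime] :
    CharP (Localization.AtPrime P) p := by
  have h0 : ((p : ℕ) : Localization.AtPrime P) = 0 := by
    rw [← map_natCast (algebraMap R (Localization.AtPrime P)), CharP.cast_eq_zero, map_zero]
  exact (CharP.charP_iff_prime_eq_zero (Fact.out (p := p.Prime))).2 h0

theorem flat_frobenius_of_isRegularLocalRing (A : Type u) [CommRing A] [IsRegularLocalRing A] [CharP A p] :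
    (frobenius A p).Flat := by
  haveI : IsLocalHom (frobenius A p) := ⟨fun a ha => (isUnit_pow_iff (Fact.out (p := p.Prime)).ne_zero).1
    (by rwa [frobenius_def] at ha)⟩
  refine flat_of_isRegularLocalRing _ (fun a ha => ⟨p, ?_⟩) rfl
  rw [← frobenius_def]
  exact Ideal.mem_map_of_mem _ ha

theorem isRegularRing_iff_flat (R : Type u) [CommRing R] [IsNoetherianRing R] [CharP R p] :
    IsRegularRing R ↔ (frobenius R p).Flat := by
  constructor
  · intro hR
    refine RingHom.Flat.ofLocalizationPrime (frobenius R p) fun P _ => ?_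
    haveI := charP_localization p P
    have key : ∀ (Q : Ideal R) [Q.IsPrime] (hQ : Q = P.comap (frobenius R p)), Q = P →
        (Localization.localRingHom Q P (frobenius R p) hQ).Flat := by
      intro Q _ hQ hQP
      subst hQP
      rw [localRingHom_frobenius p Q hQ]
      exact flat_frobenius_of_isRegularLocalRing p _
    exact key _ rfl (comap_frobenius p P)
  · intro hflat
    refine ⟨fun P _ => ?_⟩
    haveI := charP_localization p P
    have h := RingHom.Flat.localRingHom hflat P P (comap_frobenius p P).symm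
    rw [localRingHom_frobenius p P] at h
    haveI : IsNoetherianRing (Localization.AtPrime P) := IsLocalization.isNoetherianRing P.primeCompl _ inferInstance
    refine isRegularLocalRing_of_flat_endo h fun a ha => ?_
    rw [frobenius_def]
    exact Ideal.pow_le_pow_right (Fact.out (p := p.Prime)).two_le (Ideal.pow_mem_pow ha p)

end Frobenius

end Groth.Agent.Kunz27
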